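import Cfsg.Agent.Lib.Helper99.MGQ.Defs
import Cfsg.Agent.Lib.Helper68.MG.Defs

set_option autoImplicit false

namespace Cfsg.Agent.Lib.Helper99.MGQ

open Cfsg.Agent.Lib.Helper68.MG

/-- [AP] apply `thmP` (given as hypothesis `P`) to `G' = (MulAction.toPermHom G X).range`. -/
theorem AP {G X : Type*} [Group G] [MulAction G X] [Fintype X] [DecidableEq X]
    (P : ∀ (G' : Subgroup (Equiv.Perm X)), MulAction.IsPreprimitive G' X → ∀ Gam : Set X,
      2 ≤ Gam.ncard → 2 * Gam.ncard < Fintype.card X → Jor G' Gamᶜ → alternatingGroup X ≤ G')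
    (hprim : MulAction.IsPreprimitive G X) (T : Set X) (h1 : 2 ≤ T.ncard)
    (h2 : 2 * T.ncard < Fintype.card X)
    (hK : ∀ x ∈ T, ∀ y ∈ T, ∃ k : G, (∀ β, β ∉ T → k • β = β) ∧ k • x = y) :
    ∀ σ : Equiv.Perm X, Equiv.Perm.sign σ = 1 → ∃ x : G, ∀ ξ : X, x • ξ = σ ξ := by
  let φ : G → ↥(MulAction.toPermHom G X).range := (MulAction.toPermHom G X).rangeRestrict
  let f : X →ₑ[φ] X := { toFun := id, map_smul' := fun g x => rfl }
  have hprim' : MulAction.IsPreprimitive ↥(MulAction.toPermHom G X).range X :=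
    (MulAction.isPreprimitive_congr (f := f) (MonoidHom.rangeRestrict_surjective _)
      Function.bijective_id).mp hprim
  have hJ : Jor (MulAction.toPermHom G X).range Tᶜ := by
    intro x hx y hy
    have hx' : x ∈ T := by simpa using hx
    have hy' : y ∈ T := by simpa using hy
    obtain ⟨k, hk1, hk2⟩ := hK x hx' y hy'
    refine ⟨MulAction.toPermHom G X k, ⟨⟨k, rfl⟩, ?_⟩, hk2⟩
    intro β hβ
    exact hk1 β hβ
  have hle := P _ hprim' T h1 h2 hJ
  intro σ hσ
  obtain ⟨x, hx⟩ := hle (Equiv.Perm.mem_alternatingGroup.mpr hσ)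
  refine ⟨x, fun ξ => ?_⟩
  rw [← hx]
  rfl

end Cfsg.Agent.Lib.Helper99.MGQ
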