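import Cfsg.Agent.Lib.Helper99.MGQ.Defs

set_option autoImplicit false

namespace Cfsg.Agent.Lib.Helper99.MGQ

/-- [BR] bridge from the frozen hypothesis to the elementwise Jordan property. -/
theorem BR {G Ω : Type*} [Group G] [MulAction G Ω] (Γ : Set Ω)
    (hJ : MulAction.IsPretransitive ↥(fixingSubgroup G Γᶜ) ↥(SubMulAction.ofFixingSubgroup G Γᶜ)) :
    ∀ x ∈ Γ, ∀ y ∈ Γ, ∃ k : G, (∀ ω, ω ∉ Γ → k • ω = ω) ∧ k • x = y := by
  intro x hx y hy
  have hx' : x ∈ SubMulAction.ofFixingSubgroup G Γᶜ := by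
    rw [SubMulAction.mem_ofFixingSubgroup_iff]
    simpa using hx
  have hy' : y ∈ SubMulAction.ofFixingSubgroup G Γᶜ := by
    rw [SubMulAction.mem_ofFixingSubgroup_iff]
    simpa using hy
  obtain ⟨k, hk⟩ := hJ.exists_smul_eq ⟨x, hx'⟩ ⟨y, hy'⟩
  refine ⟨k.1, ?_, ?_⟩
  · intro ω hω
    exact (mem_fixingSubgroup_iff G).mp k.2 ω hω
  · exact congrArg Subtype.val hk

end Cfsg.Agent.Lib.Helper99.MGQ
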