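import Mathlib

/-! # S3620 (Marggraf), Theorem Q (quasiprimitive => primitive), helper99 farm MGQ: definitions -/

set_option autoImplicit false

namespace Cfsg.Agent.Lib.Helper99.MGQ

/-- `G` acts on `Ω` and on `B`, `p : Ω → B` is an equivariant surjection with a non-trivial fibre, `G` is faithful on `B`
and transitive on `Ω`, and `Γ` is a Jordan set of `G` on `Ω` with at least two points. -/
structure Fib (G Ω B : Type*) [Group G] [MulAction G Ω] [MulAction G B] (p : Ω → B) (Γ : Set Ω) :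
    Prop where
  eqv : ∀ (g : G) (ω : Ω), p (g • ω) = g • p ω
  surj : Function.Surjective p
  faith : ∀ x : G, (∀ β : B, x • β = β) → x = 1
  trans : ∀ ω ω' : Ω, ∃ g : G, g • ω = ω'
  pair : ∃ w w' : Ω, w ≠ w' ∧ p w = p w'
  jor : ∀ x ∈ Γ, ∀ y ∈ Γ, ∃ k : G, (∀ ω, ω ∉ Γ → k • ω = ω) ∧ k • x = y
  two : ∃ x ∈ Γ, ∃ y ∈ Γ, x ≠ y

end Cfsg.Agent.Lib.Helper99.MGQ
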