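import Cfsg.Agent.Lib.Helper99.MGQ.Defs

set_option autoImplicit false

namespace Cfsg.Agent.Lib.Helper99.MGQ

/-- [F1] not primitive => equivariant map onto a primitive coset space with a non-trivial fibre (helper64) -/
theorem F1 {G Ω : Type*} [Group G] [Finite G] [MulAction G Ω] [MulAction.IsPretransitive G Ω]
    [Nonempty Ω] (hnp : ¬ MulAction.IsPreprimitive G Ω) :
    ∃ (L : Subgroup G) (p : Ω → G ⧸ L), (∀ (g : G) (ω : Ω), p (g • ω) = g • p ω) ∧
      Function.Surjective p ∧ MulAction.IsPreprimitive G (G ⧸ L) ∧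
      (∃ w w' : Ω, w ≠ w' ∧ p w = p w') ∧ (∃ β β' : G ⧸ L, β ≠ β') := by
  classical
  obtain ⟨ω0⟩ := ‹Nonempty Ω›
  have hnt : Nontrivial Ω := by
    by_contra hn
    rw [not_nontrivial_iff_subsingleton] at hn
    exact hnp MulAction.IsPreprimitive.of_subsingleton
  set S := MulAction.stabilizer G ω0 with hS
  have hSc : ¬ IsCoatom S := fun hc => hnp ((MulAction.isCoatom_stabilizer_iff_preprimitive G ω0).1 hc)
  have hStop : S ≠ ⊤ := by
    intro htop
    obtain ⟨a, b, hab⟩ := hnt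
    obtain ⟨g, hg⟩ := MulAction.exists_smul_eq G ω0 a
    obtain ⟨g', hg'⟩ := MulAction.exists_smul_eq G ω0 b
    have h1 : g ∈ S := by rw [htop]; trivial
    have h2 : g' ∈ S := by rw [htop]; trivial
    rw [hS, MulAction.mem_stabilizer_iff] at h1 h2
    exact hab (by rw [← hg, ← hg', h1, h2])
  obtain ⟨L, hL, hSL⟩ := (eq_top_or_exists_le_coatom S).resolve_left hStop
  have hLS : L ≠ S := fun h => hSc (h ▸ hL)
  have hc : ∀ ω : Ω, ∃ g : G, g • ω0 = ω := fun ω => MulAction.exists_smul_eq G ω0 ω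
  choose c hcs using hc
  let p : Ω → G ⧸ L := fun ω => ((c ω : G) : G ⧸ L)
  have key : ∀ g : G, p (g • ω0) = ((g : G) : G ⧸ L) := by
    intro g
    show ((c (g • ω0) : G) : G ⧸ L) = _
    rw [QuotientGroup.eq]
    apply hSL
    rw [hS, MulAction.mem_stabilizer_iff, mul_smul, inv_smul_eq_iff, hcs]
  obtain ⟨g0, hg0⟩ : ∃ g : G, g ∉ L := by
    by_contra hcon
    push Not at hcon
    exact hL.1 (eq_top_iff.2 fun x _ => hcon x)
  have hne : (((1 : G) : G ⧸ L)) ≠ ((g0 : G) : G ⧸ L) := by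
    intro h
    rw [QuotientGroup.eq] at h
    apply hg0
    simpa using h
  have hntq : Nontrivial (G ⧸ L) := ⟨⟨_, _, hne⟩⟩
  refine ⟨L, p, ?_, ?_, ?_, ?_, ⟨_, _, hne⟩⟩
  · intro g ω
    have h1 : p (g • ω) = (((g * c ω : G)) : G ⧸ L) := by
      rw [← key (g * c ω), mul_smul, hcs]
    rw [h1]
    rfl
  · intro q
    obtain ⟨g, rfl⟩ := QuotientGroup.mk_surjective q
    exact ⟨g • ω0, key g⟩
  · rw [← MulAction.isCoatom_stabilizer_iff_preprimitive G (((1 : G) : G ⧸ L)), MulAction.stabilizer_quotient]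
    exact hL
  · obtain ⟨l, hl, hlS⟩ : ∃ l ∈ L, l ∉ S := by
      by_contra hcon
      push Not at hcon
      exact hLS (le_antisymm hcon hSL)
    refine ⟨ω0, l • ω0, ?_, ?_⟩
    · intro h
      apply hlS
      rw [hS, MulAction.mem_stabilizer_iff]
      exact h.symm
    · have h1 : p ω0 = (((1 : G)) : G ⧸ L) := by
        have := key 1
        rwa [one_smul] at this
      rw [h1, key l, QuotientGroup.eq]
      simpa using hl

end Cfsg.Agent.Lib.Helper99.MGQ
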