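import Cfsg.Agent.Lib.Helper99.MGQ.Defs

set_option autoImplicit false

namespace Cfsg.Agent.Lib.Helper99.MGQ

variable {G Ω B : Type*} [Group G] [MulAction G Ω] [MulAction G B] {p : Ω → B} {Γ : Set Ω}

/-- [FIN] -/
theorem FIN [Fintype B] [DecidableEq B] (h : Fib G Ω B p Γ)
    (hqp : ∀ N : Subgroup G, N.Normal → N ≠ ⊥ → MulAction.IsPretransitive ↥N Ω)
    (B0 : B) (z : G) (hz1 : z ≠ 1)
    (hzs : Equiv.Perm.sign (MulAction.toPerm z : Equiv.Perm B) = 1)
    (hZ2 : ∀ a : G, Equiv.Perm.sign (MulAction.toPerm a : Equiv.Perm B) = 1 → a • B0 = B0 →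
      ∀ ω, p ω = B0 → a • ω = ω) : False := by
  obtain ⟨A, hA⟩ : ∃ A : Subgroup G, A = ((Equiv.Perm.sign).comp (MulAction.toPermHom G B)).ker :=
    ⟨_, rfl⟩
  have hmem : ∀ a : G, a ∈ A ↔ Equiv.Perm.sign (MulAction.toPerm a : Equiv.Perm B) = 1 := by
    intro a
    rw [hA, MonoidHom.mem_ker]
    rfl
  have hAn : A.Normal := by rw [hA]; exact MonoidHom.normal_ker _
  have hAne : A ≠ ⊥ := by
    intro e
    have : z ∈ A := (hmem z).2 hzs
    rw [e, Subgroup.mem_bot] at this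
    exact hz1 this
  have htr := hqp A hAn hAne
  obtain ⟨w, w', hww, hp⟩ := h.pair
  obtain ⟨ω0, hω0⟩ := h.surj B0
  obtain ⟨g, hg⟩ := h.trans w ω0
  have h1 : p (g • w) = B0 := by rw [hg, hω0]
  have h2 : p (g • w') = B0 := by
    have e1 : p (g • w') = g • p w' := h.eqv g w'
    have e2 : p (g • w) = g • p w := h.eqv g w
    rw [e1, ← hp, ← e2, h1]
  have hne : g • w ≠ g • w' := fun e => hww (MulAction.injective g e)
  obtain ⟨a, ha⟩ := htr.exists_smul_eq (g • w) (g • w')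
  have ha' : (a : G) • (g • w) = g • w' := ha
  have haB : (a : G) • B0 = B0 := by
    have e1 : p ((a : G) • (g • w)) = (a : G) • p (g • w) := h.eqv _ _
    rw [h1, ha', h2] at e1
    exact e1.symm
  have := hZ2 a ((hmem a).1 a.2) haB (g • w) h1
  rw [ha'] at this
  exact hne this.symm

end Cfsg.Agent.Lib.Helper99.MGQ
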