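import Cfsg.Agent.Lib.Helper99.MGQ.Defs

set_option autoImplicit false

namespace Cfsg.Agent.Lib.Helper99.MGQ

/-- [L1] a permutation fixing `B0` comes from the complement. -/
theorem L1 {B : Type*} [Fintype B] [DecidableEq B] (B0 : B) (f : Equiv.Perm B) (hf : f B0 = B0) :
    ∃ τ : Equiv.Perm {β : B // β ≠ B0}, Equiv.Perm.ofSubtype τ = f ∧
      Equiv.Perm.sign τ = Equiv.Perm.sign f := by
  have h1 : ∀ x : B, f x ≠ B0 ↔ x ≠ B0 := by
    intro x
    constructor
    · intro hx e
      apply hx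
      rw [e, hf]
    · intro hx e
      apply hx
      apply f.injective
      rw [e, hf]
  have h2 : Equiv.Perm.ofSubtype (f.subtypePerm (p := fun β => β ≠ B0) h1) = f := by
    apply Equiv.Perm.ofSubtype_subtypePerm
    intro x hx e
    apply hx
    rw [e, hf]
  refine ⟨f.subtypePerm (p := fun β => β ≠ B0) h1, h2, ?_⟩
  rw [← Equiv.Perm.sign_ofSubtype, h2]

end Cfsg.Agent.Lib.Helper99.MGQ
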