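import Cfsg.Agent.Lib.Helper99.MGQ.Defs

set_option autoImplicit false

namespace Cfsg.Agent.Lib.Helper99.MGQ

/-- [Q1] the kernel on `B` is trivial. -/
theorem Q1 {G Ω B : Type*} [Group G] [MulAction G Ω] [MulAction G B] (p : Ω → B)
    (hqp : ∀ N : Subgroup G, N.Normal → N ≠ ⊥ → MulAction.IsPretransitive ↥N Ω)
    (eqv : ∀ (g : G) (ω : Ω), p (g • ω) = g • p ω) (surj : Function.Surjective p)
    (hne : ∃ β β' : B, β ≠ β') : ∀ x : G, (∀ β : B, x • β = β) → x = 1 := by
  intro x hx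
  by_contra hx1
  have hmem : ∀ y : G, y ∈ (MulAction.toPermHom G B).ker ↔ ∀ β : B, y • β = β := by
    intro y
    rw [MonoidHom.mem_ker]
    constructor
    · intro h β
      have := congrArg (fun f : Equiv.Perm B => f β) h
      simpa using this
    · intro h
      ext β
      simpa using h β
  have hN : (MulAction.toPermHom G B).ker ≠ ⊥ := by
    intro hbot
    have h1 : x ∈ (MulAction.toPermHom G B).ker := (hmem x).2 hx
    rw [hbot, Subgroup.mem_bot] at h1
    exact hx1 h1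
  have htr := hqp _ (MonoidHom.normal_ker _) hN
  obtain ⟨β, β', hββ⟩ := hne
  obtain ⟨ω, rfl⟩ := surj β
  obtain ⟨ω', rfl⟩ := surj β'
  obtain ⟨⟨y, hy⟩, hyω⟩ := htr.exists_smul_eq ω ω'
  apply hββ
  have h2 : y • ω = ω' := hyω
  rw [← h2, eqv, (hmem y).1 hy]

end Cfsg.Agent.Lib.Helper99.MGQ
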