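import Cfsg.Agent.Lib.Helper99.MGQ.Defs

set_option autoImplicit false

namespace Cfsg.Agent.Lib.Helper99.MGQ

variable {G Ω B : Type*} [Group G] [MulAction G Ω] [MulAction G B] {p : Ω → B} {Γ : Set Ω}

/-- [S1] `Γ` is a union of fibres. -/
theorem S1 (h : Fib G Ω B p Γ) : ∀ ω, p ω ∈ p '' Γ → ω ∈ Γ := by
  intro δ hδ
  by_contra hδΓ
  obtain ⟨γ0, hγ0, hpγ0⟩ := hδ
  -- every point of `Γ` lies over `p δ`
  have hall : ∀ ω ∈ Γ, p ω = p δ := by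
    intro ω hω
    obtain ⟨k', hk', hk'ω⟩ := h.jor γ0 hγ0 ω hω
    rw [← hk'ω, h.eqv, hpγ0, ← h.eqv, hk' δ hδΓ]
  obtain ⟨x, hx, y, hy, hxy⟩ := h.two
  obtain ⟨k, hk, hkx⟩ := h.jor x hx y hy
  have hk1 : k = 1 := by
    apply h.faith
    intro β
    obtain ⟨ω, rfl⟩ := h.surj β
    by_cases hω : ω ∈ Γ
    · rw [hall ω hω, ← h.eqv, hk δ hδΓ]
    · rw [← h.eqv, hk ω hω]
  apply hxy
  rw [← hkx, hk1, one_smul]

end Cfsg.Agent.Lib.Helper99.MGQ
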