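import Cfsg.Agent.Lib.Helper99.MGQ.Defs
import Cfsg.Agent.Lib.Helper99.MGQ.S1

set_option autoImplicit false

namespace Cfsg.Agent.Lib.Helper99.MGQ

variable {G Ω B : Type*} [Group G] [MulAction G Ω] [MulAction G B] {p : Ω → B} {Γ : Set Ω}

/-- [S2] at least three fibres in `Γ`. -/
theorem S2 [Finite B] (h : Fib G Ω B p Γ) : 3 ≤ (p '' Γ).ncard := by
  obtain ⟨γ, hγ, -, -, -⟩ := h.two
  obtain ⟨w, w', hww, hpw⟩ := h.pair
  obtain ⟨g, hg⟩ := h.trans w γ
  have hne : g • w' ≠ γ := by
    intro he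
    rw [← hg] at he
    exact hww (smul_left_cancel g he).symm
  have hp : p (g • w') = p γ := by
    rw [← hg, h.eqv, h.eqv, hpw]
  have hγ' : g • w' ∈ Γ := S1 h _ ⟨γ, hγ, hp.symm⟩
  obtain ⟨k, hk1, hk2⟩ := h.jor γ hγ _ hγ'
  by_contra hlt
  have hout : ∀ β, β ∉ p '' Γ → k • β = β := by
    intro β hβ
    obtain ⟨ω, rfl⟩ := h.surj β
    have hω : ω ∉ Γ := fun hω => hβ ⟨ω, hω, rfl⟩
    rw [← h.eqv, hk1 ω hω]
  have h1 : k • p γ = p γ := by
    rw [← h.eqv, hk2, hp]
  have hk : k = 1 := by
    apply h.faith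
    intro β
    by_cases hβ : β ∈ p '' Γ
    · by_contra hkβ
      have hβ1 : β ≠ p γ := by
        rintro rfl
        exact hkβ h1
      have hkT : k • β ∈ p '' Γ := by
        by_contra hn
        have := hout _ hn
        exact hkβ (smul_left_cancel k this)
      have hk1' : k • β ≠ p γ := by
        intro he
        rw [← h1] at he
        exact hβ1 (smul_left_cancel k he)
      apply hlt
      have hsub : ({p γ, β, k • β} : Set B) ⊆ p '' Γ := by
        intro y hy
        simp only [Set.mem_insert_iff, Set.mem_singleton_iff] at hy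
        rcases hy with rfl | rfl | rfl
        · exact ⟨γ, hγ, rfl⟩
        · exact hβ
        · exact hkT
      have hc : ({p γ, β, k • β} : Set B).ncard = 3 := by
        rw [Set.ncard_insert_of_notMem, Set.ncard_pair (Ne.symm hkβ)]
        simp only [Set.mem_insert_iff, Set.mem_singleton_iff, not_or]
        exact ⟨hβ1.symm, hk1'.symm⟩
      rw [← hc]
      exact Set.ncard_le_ncard hsub (Set.toFinite _)
    · exact hout β hβ
  apply hne
  rw [← hk2, hk, one_smul]

end Cfsg.Agent.Lib.Helper99.MGQ
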