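import Cfsg.Agent.Lib.Helper99.MGQ.S1

set_option autoImplicit false

namespace Cfsg.Agent.Lib.Helper99.MGQ

variable {G Ω B : Type*} [Group G] [MulAction G Ω] [MulAction G B] {p : Ω → B} {Γ : Set Ω}

open Classical in
theorem S3_fib [Fintype Ω] (h : Fib G Ω B p Γ) (β β' : B) :
    (Finset.univ.filter (fun ω => p ω = β)).card = (Finset.univ.filter (fun ω => p ω = β')).card := by
  obtain ⟨w, rfl⟩ := h.surj β
  obtain ⟨w', rfl⟩ := h.surj β'
  obtain ⟨g, hg⟩ := h.trans w w'
  refine Finset.card_bij (fun ω _ => g • ω) ?_ ?_ ?_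
  · intro a ha
    simp only [Finset.mem_filter, Finset.mem_univ, true_and] at ha ⊢
    rw [h.eqv, ha, ← h.eqv, hg]
  · intro a _ b _ hab
    exact smul_left_cancel g hab
  · intro b hb
    simp only [Finset.mem_filter, Finset.mem_univ, true_and] at hb
    refine ⟨g⁻¹ • b, ?_, by simp⟩
    simp only [Finset.mem_filter, Finset.mem_univ, true_and]
    rw [h.eqv, hb, ← hg, h.eqv, inv_smul_smul]

open Classical in
theorem S3 [Fintype Ω] [Fintype B] (h : Fib G Ω B p Γ) (h2 : 2 * Γ.ncard < Fintype.card Ω) :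
    2 * (p '' Γ).ncard < Fintype.card B := by
  obtain ⟨x0, hx0, -⟩ := h.two
  set b := (Finset.univ.filter (fun ω => p ω = p x0)).card with hb
  have hfib : ∀ β : B, (Finset.univ.filter (fun ω => p ω = β)).card = b := fun β => S3_fib h β (p x0)
  have hΩ : Fintype.card Ω = Fintype.card B * b := by
    rw [← Finset.card_univ, Finset.card_eq_sum_card_fiberwise (f := p) (t := Finset.univ)
      (fun _ _ => Finset.mem_coe.2 (Finset.mem_univ _))]
    simp [hfib]
  have hΓ : Γ.ncard = (p '' Γ).ncard * b := by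
    have e1 : Γ.ncard = (Γ.toFinset).card := by rw [Set.ncard_eq_toFinset_card']
    have e2 : (p '' Γ).ncard = ((p '' Γ).toFinset).card := by rw [Set.ncard_eq_toFinset_card']
    rw [e1, e2, Finset.card_eq_sum_card_fiberwise (f := p) (t := (p '' Γ).toFinset)
      (fun x hx => by
        simp only [Set.coe_toFinset] at hx ⊢
        exact ⟨x, hx, rfl⟩)]
    have : ∀ β ∈ (p '' Γ).toFinset, ((Γ.toFinset).filter (fun ω => p ω = β)).card = b := by
      intro β hβ
      rw [← hfib β]
      congr 1
      ext ω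
      simp only [Finset.mem_filter, Set.mem_toFinset, Finset.mem_univ, true_and]
      constructor
      · exact fun hh => hh.2
      · intro hh
        refine ⟨S1 h ω ?_, hh⟩
        rw [hh]
        simpa using hβ
    rw [Finset.sum_congr rfl this]
    simp
  rw [hΩ, hΓ] at h2
  have hbpos : 0 < b := by
    rw [hb]
    exact Finset.card_pos.2 ⟨x0, by simp⟩
  have : 2 * (p '' Γ).ncard * b < Fintype.card B * b := by
    calc 2 * (p '' Γ).ncard * b = 2 * ((p '' Γ).ncard * b) := by ring
      _ < _ := h2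
  exact lt_of_mul_lt_mul_right this (Nat.zero_le b)

end Cfsg.Agent.Lib.Helper99.MGQ
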