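import Cfsg.Agent.Lib.Helper99.MGQ.Defs

set_option autoImplicit false

namespace Cfsg.Agent.Lib.Helper99.MGQ

variable {G Ω B : Type*} [Group G] [MulAction G Ω] [MulAction G B] {p : Ω → B} {Γ : Set Ω}

/-- [S4] `p '' Γ` is a Jordan set on `B`. -/
theorem S4 (h : Fib G Ω B p Γ) : ∀ x ∈ p '' Γ, ∀ y ∈ p '' Γ,
    ∃ k : G, (∀ β, β ∉ p '' Γ → k • β = β) ∧ k • x = y := by
  rintro _ ⟨γ, hγ, rfl⟩ _ ⟨γ', hγ', rfl⟩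
  obtain ⟨k, hk, hkγ⟩ := h.jor γ hγ γ' hγ'
  refine ⟨k, ?_, by rw [← h.eqv, hkγ]⟩
  intro β hβ
  obtain ⟨ω, rfl⟩ := h.surj β
  have hω : ω ∉ Γ := fun hω => hβ ⟨ω, hω, rfl⟩
  rw [← h.eqv, hk ω hω]

end Cfsg.Agent.Lib.Helper99.MGQ
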