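import Cfsg.Agent.Lib.Helper99.MGQ.Defs

set_option autoImplicit false

namespace Cfsg.Agent.Lib.Helper99.MGQ

variable {G Ω B : Type*} [Group G] [MulAction G Ω] [MulAction G B] {p : Ω → B} {Γ : Set Ω}

/-- [Z1] -/
theorem Z1 [Fintype B] [DecidableEq B] (h : Fib G Ω B p Γ) (h3 : 3 ≤ (p '' Γ).ncard)
    (h2 : 2 * (p '' Γ).ncard < Fintype.card B)
    (even : ∀ σ : Equiv.Perm B, Equiv.Perm.sign σ = 1 → ∃ x : G, ∀ β : B, x • β = σ β)
    (B0 : B) (hB0 : B0 ∉ p '' Γ) :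
    ∃ z : G, z ≠ 1 ∧ (∀ ω, p ω = B0 → z • ω = ω) ∧
      Equiv.Perm.sign (MulAction.toPerm z : Equiv.Perm B) = 1 := by
  classical
  obtain ⟨x, hx, y, hy, hxy⟩ := h.two
  obtain ⟨k, hk, hkx⟩ := h.jor x hx y hy
  have hk1 : k ≠ 1 := by
    intro e
    rw [e, one_smul] at hkx
    exact hxy hkx
  obtain ⟨a, ha⟩ : ∃ a : B, k • a ≠ a := by
    by_contra hcon
    push Not at hcon
    exact hk1 (h.faith k hcon)
  have hkT : ∀ β, β ∉ p '' Γ → k • β = β := by
    intro β hβ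
    obtain ⟨ω, rfl⟩ := h.surj β
    have hω : ω ∉ Γ := fun hm => hβ ⟨ω, hm, rfl⟩
    rw [← h.eqv, hk ω hω]
  have haT : a ∈ p '' Γ := by
    by_contra hcon
    exact ha (hkT a hcon)
  have ha1T : k • a ∈ p '' Γ := by
    by_contra hcon
    have := hkT _ hcon
    exact ha (smul_left_cancel k this)
  -- two more points
  set S : Finset B := (Set.toFinite (p '' Γ)).toFinset ∪ {B0} with hS
  have hScard : S.card ≤ (p '' Γ).ncard + 1 := by
    refine le_trans (Finset.card_union_le _ _) ?_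
    rw [Finset.card_singleton, ← Set.ncard_eq_toFinset_card (p '' Γ) (Set.toFinite _)]
  have hcompl : 1 < (Finset.univ \ S).card := by
    rw [Finset.card_sdiff_of_subset (Finset.subset_univ S), Finset.card_univ]
    omega
  obtain ⟨a', ha', a'', ha'', hne⟩ := Finset.one_lt_card.1 hcompl
  have hnS : ∀ b, b ∈ Finset.univ \ S → b ∉ p '' Γ ∧ b ≠ B0 := by
    intro b hb
    rw [Finset.mem_sdiff, hS, Finset.mem_union, not_or, Set.Finite.mem_toFinset,
      Finset.mem_singleton] at hb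
    exact hb.2
  obtain ⟨ha'T, ha'0⟩ := hnS a' ha'
  obtain ⟨ha''T, ha''0⟩ := hnS a'' ha''
  have n1 : k • a ≠ a' := fun e => ha'T (e ▸ ha1T)
  have n2 : k • a ≠ a'' := fun e => ha''T (e ▸ ha1T)
  have n3 : a ≠ a' := fun e => ha'T (e ▸ haT)
  have n4 : a ≠ a'' := fun e => ha''T (e ▸ haT)
  have n5 : B0 ≠ k • a := fun e => hB0 (e ▸ ha1T)
  have hsign : Equiv.Perm.sign (Equiv.swap (k • a) a' * Equiv.swap a' a'') = 1 := by
    rw [Equiv.Perm.sign_mul, Equiv.Perm.sign_swap n1, Equiv.Perm.sign_swap hne]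
    rfl
  obtain ⟨g, hg⟩ := even _ hsign
  have hgB0 : g • B0 = B0 := by
    rw [hg, Equiv.Perm.mul_apply, Equiv.swap_apply_of_ne_of_ne ha'0.symm ha''0.symm,
      Equiv.swap_apply_of_ne_of_ne n5 ha'0.symm]
  have hga : g • a = a := by
    rw [hg, Equiv.Perm.mul_apply, Equiv.swap_apply_of_ne_of_ne n3 n4,
      Equiv.swap_apply_of_ne_of_ne (Ne.symm ha) n3]
  have hga1 : g • (k • a) ≠ k • a := by
    rw [hg, Equiv.Perm.mul_apply, Equiv.swap_apply_of_ne_of_ne n1 n2, Equiv.swap_apply_left]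
    exact n1.symm
  refine ⟨k⁻¹ * (g * k * g⁻¹), ?_, ?_, ?_⟩
  · intro e
    have e1 : g * k * g⁻¹ = k := by
      have := congrArg (fun t => k * t) e
      simpa using this
    have e2 : g * k = k * g := by
      calc g * k = g * k * g⁻¹ * g := by group
        _ = k * g := by rw [e1]
    apply hga1
    rw [← mul_smul, e2, mul_smul, hga]
  · intro ω hω
    have hωΓ : ω ∉ Γ := fun hm => hB0 ⟨ω, hm, hω⟩
    have h1 : p (g⁻¹ • ω) = B0 := by
      rw [h.eqv, hω, inv_smul_eq_iff, hgB0]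
    have h1Γ : g⁻¹ • ω ∉ Γ := fun hm => hB0 ⟨_, hm, h1⟩
    rw [mul_smul, mul_smul, mul_smul, hk _ h1Γ, smul_inv_smul, inv_smul_eq_iff, hk _ hωΓ]
  · let s : G →* ℤˣ := Equiv.Perm.sign.comp (MulAction.toPermHom G B)
    show s (k⁻¹ * (g * k * g⁻¹)) = 1
    rw [map_mul, map_mul, map_mul, map_inv, map_inv, mul_comm (s g) (s k), mul_inv_cancel_right,
      inv_mul_cancel]

end Cfsg.Agent.Lib.Helper99.MGQ
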