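import Cfsg.Agent.Lib.Helper99.MGQ.Defs

set_option autoImplicit false

namespace Cfsg.Agent.Lib.Helper99.MGQ

/-- own copy of L1 (so that this file depends on nothing else) -/
theorem Z2_L1 {B : Type*} [Fintype B] [DecidableEq B] (B0 : B) (f : Equiv.Perm B) (hf : f B0 = B0) :
    ∃ τ : Equiv.Perm {β : B // β ≠ B0}, Equiv.Perm.ofSubtype τ = f ∧
      Equiv.Perm.sign τ = Equiv.Perm.sign f := by
  have h1 : ∀ x, f x ≠ B0 ↔ x ≠ B0 := by
    intro x
    constructor
    · intro hx h; apply hx; rw [h, hf]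
    · intro hx h; apply hx; apply f.injective; rw [h, hf]
  have h2 : ∀ x, f x ≠ x → x ≠ B0 := by
    intro x hx h; apply hx; rw [h, hf]
  exact ⟨f.subtypePerm h1, Equiv.Perm.ofSubtype_subtypePerm h1 h2, Equiv.Perm.sign_subtypePerm f h1 h2⟩

variable {G Ω B : Type*} [Group G] [MulAction G Ω] [MulAction G B] {p : Ω → B}

theorem Z2 [Fintype B] [DecidableEq B] (eqv : ∀ (g : G) (ω : Ω), p (g • ω) = g • p ω)
    (surj : Function.Surjective p) (faith : ∀ x : G, (∀ β : B, x • β = β) → x = 1)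
    (h6 : 6 ≤ Fintype.card B)
    (even : ∀ σ : Equiv.Perm B, Equiv.Perm.sign σ = 1 → ∃ x : G, ∀ β : B, x • β = σ β)
    (B0 : B) (z : G) (hz1 : z ≠ 1) (hz : ∀ ω, p ω = B0 → z • ω = ω)
    (hzs : Equiv.Perm.sign (MulAction.toPerm z : Equiv.Perm B) = 1) :
    ∀ a : G, Equiv.Perm.sign (MulAction.toPerm a : Equiv.Perm B) = 1 → a • B0 = B0 →
      ∀ ω, p ω = B0 → a • ω = ω := by
  have hcard : 5 ≤ Nat.card {β : B // β ≠ B0} := by
    rw [Nat.card_eq_fintype_card, Fintype.card_subtype_compl, Fintype.card_subtype_eq]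
    omega
  haveI : IsSimpleGroup (alternatingGroup {β : B // β ≠ B0}) := alternatingGroup.isSimpleGroup hcard
  let W : Subgroup (alternatingGroup {β : B // β ≠ B0}) :=
    { carrier := {τ | ∃ x : G, (∀ β, x • β = Equiv.Perm.ofSubtype (τ : Equiv.Perm {β : B // β ≠ B0}) β) ∧
        ∀ ω, p ω = B0 → x • ω = ω}
      mul_mem' := by
        rintro τ1 τ2 ⟨x1, h11, h12⟩ ⟨x2, h21, h22⟩
        refine ⟨x1 * x2, fun β => ?_, fun ω hω => ?_⟩
        · rw [mul_smul, h21, h11]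
          simp [map_mul]
        · rw [mul_smul, h22 ω hω, h12 ω hω]
      one_mem' := ⟨1, fun β => by simp, fun ω _ => one_smul _ _⟩
      inv_mem' := by
        rintro τ1 ⟨x1, h11, h12⟩
        refine ⟨x1⁻¹, fun β => ?_, fun ω hω => ?_⟩
        · rw [inv_smul_eq_iff, h11]
          simp [map_inv]
        · rw [inv_smul_eq_iff, h12 ω hω] }
  have hWmem : ∀ τ : alternatingGroup {β : B // β ≠ B0}, τ ∈ W ↔
      ∃ x : G, (∀ β, x • β = Equiv.Perm.ofSubtype (τ : Equiv.Perm {β : B // β ≠ B0}) β) ∧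
        ∀ ω, p ω = B0 → x • ω = ω := fun τ => Iff.rfl
  have hWn : W.Normal := by
    constructor
    intro τ hτ π
    obtain ⟨x, hx1, hx2⟩ := (hWmem τ).1 hτ
    have hπs : Equiv.Perm.sign (Equiv.Perm.ofSubtype (π : Equiv.Perm {β : B // β ≠ B0})) = 1 := by
      rw [Equiv.Perm.sign_ofSubtype]
      exact Equiv.Perm.mem_alternatingGroup.mp π.2
    obtain ⟨g, hg⟩ := even _ hπs
    have hgB0 : g • B0 = B0 := by
      rw [hg]
      exact Equiv.Perm.ofSubtype_apply_of_not_mem _ (by simp)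
    have hginv : ∀ β, g⁻¹ • β = (Equiv.Perm.ofSubtype (π : Equiv.Perm {β : B // β ≠ B0}))⁻¹ β := by
      intro β
      rw [inv_smul_eq_iff, hg]
      simp
    rw [hWmem]
    refine ⟨g * x * g⁻¹, fun β => ?_, fun ω hω => ?_⟩
    · rw [mul_smul, mul_smul, hginv, hx1, hg]
      simp [map_mul, map_inv]
    · have h1 : p (g⁻¹ • ω) = B0 := by
        rw [eqv, hω, inv_smul_eq_iff, hgB0]
      rw [mul_smul, mul_smul, hx2 _ h1, smul_inv_smul]
  have hzB0 : z • B0 = B0 := by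
    obtain ⟨ω0, hω0⟩ := surj B0
    rw [← hω0, ← eqv, hz ω0 hω0]
  have hWne : W ≠ ⊥ := by
    intro hbot
    obtain ⟨τ, hτ1, hτ2⟩ := Z2_L1 B0 (MulAction.toPerm z) hzB0
    have hτmem : τ ∈ alternatingGroup {β : B // β ≠ B0} := by
      rw [Equiv.Perm.mem_alternatingGroup, hτ2, hzs]
    have hin : (⟨τ, hτmem⟩ : alternatingGroup {β : B // β ≠ B0}) ∈ W := by
      rw [hWmem]
      refine ⟨z, fun β => ?_, hz⟩
      show z • β = Equiv.Perm.ofSubtype τ β
      rw [hτ1]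
      rfl
    rw [hbot, Subgroup.mem_bot] at hin
    have hτone : τ = 1 := congrArg Subtype.val hin
    apply hz1
    apply faith
    intro β
    have : (MulAction.toPerm z : Equiv.Perm B) β = β := by
      rw [← hτ1, hτone]
      simp
    exact this
  have hWtop : W = ⊤ := (hWn.eq_bot_or_eq_top).resolve_left hWne
  intro a ha haB ω hω
  obtain ⟨τ, hτ1, hτ2⟩ := Z2_L1 B0 (MulAction.toPerm a) haB
  have hτmem : τ ∈ alternatingGroup {β : B // β ≠ B0} := by
    rw [Equiv.Perm.mem_alternatingGroup, hτ2, ha]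
  have hin : (⟨τ, hτmem⟩ : alternatingGroup {β : B // β ≠ B0}) ∈ W := hWtop ▸ Subgroup.mem_top _
  obtain ⟨x, hx1, hx2⟩ := (hWmem _).1 hin
  have hax : x⁻¹ * a = 1 := by
    apply faith
    intro β
    rw [mul_smul, inv_smul_eq_iff, hx1 β]
    show a • β = Equiv.Perm.ofSubtype τ β
    rw [hτ1]
    rfl
  have hax' : a = x := by
    rw [inv_mul_eq_one] at hax
    exact hax.symm
  rw [hax']
  exact hx2 ω hω

end Cfsg.Agent.Lib.Helper99.MGQ
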