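import Cfsg.Agent.Lib.Helper99.MGQ.Defs

set_option autoImplicit false
set_option linter.style.haveILetI false

namespace Cfsg.Agent.Lib.Helper99.MGQ

theorem Z2x_L1 {B : Type*} [Fintype B] [DecidableEq B] (B0 : B) (f : Equiv.Perm B) (hf : f B0 = B0) :
    ∃ τ : Equiv.Perm {β : B // β ≠ B0}, Equiv.Perm.ofSubtype τ = f ∧
      Equiv.Perm.sign τ = Equiv.Perm.sign f := by
  have h1 : ∀ x, (f x ≠ B0) ↔ (x ≠ B0) := by
    intro x
    constructor
    · intro h hx; exact h (by rw [hx, hf])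
    · intro h hx; exact h (f.injective (by rw [hx, hf]))
  have h2 : ∀ x, f x ≠ x → x ≠ B0 := by
    intro x hx h; exact hx (by rw [h, hf])
  refine ⟨f.subtypePerm h1, Equiv.Perm.ofSubtype_subtypePerm h1 h2, ?_⟩
  exact Equiv.Perm.sign_subtypePerm f h1 h2

variable {G Ω B : Type*} [Group G] [MulAction G Ω] [MulAction G B] {p : Ω → B} {Γ : Set Ω}

theorem Z2x [Fintype B] [DecidableEq B] (eqv : ∀ (g : G) (ω : Ω), p (g • ω) = g • p ω)
    (surj : Function.Surjective p) (faith : ∀ x : G, (∀ β : B, x • β = β) → x = 1)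
    (h6 : 6 ≤ Fintype.card B)
    (even : ∀ σ : Equiv.Perm B, Equiv.Perm.sign σ = 1 → ∃ x : G, ∀ β : B, x • β = σ β)
    (B0 : B) (z : G) (hz1 : z ≠ 1) (hz : ∀ ω, p ω = B0 → z • ω = ω)
    (hzs : Equiv.Perm.sign (MulAction.toPerm z : Equiv.Perm B) = 1) :
    ∀ a : G, Equiv.Perm.sign (MulAction.toPerm a : Equiv.Perm B) = 1 → a • B0 = B0 →
      ∀ ω, p ω = B0 → a • ω = ω := by
  have hcard : 5 ≤ Nat.card {β : B // β ≠ B0} := by
    rw [Nat.card_eq_fintype_card]
    have h1 : Fintype.card {β : B // β ≠ B0} = Fintype.card B - 1 := by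
      rw [Fintype.card_subtype_compl (fun x => x = B0), Fintype.card_subtype_eq]
    omega
  haveI hsimple : IsSimpleGroup (alternatingGroup {β : B // β ≠ B0}) :=
    alternatingGroup.isSimpleGroup hcard
  let W : Subgroup (alternatingGroup {β : B // β ≠ B0}) :=
    { carrier := {τ | ∃ x : G, (∀ β, x • β =
        Equiv.Perm.ofSubtype (τ : Equiv.Perm {β : B // β ≠ B0}) β) ∧ ∀ ω, p ω = B0 → x • ω = ω}
      mul_mem' := by
        rintro a b ⟨x, hx1, hx2⟩ ⟨y, hy1, hy2⟩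
        refine ⟨x * y, fun β => ?_, fun ω hω => ?_⟩
        · rw [mul_smul, hy1, hx1]
          simp [map_mul]
        · rw [mul_smul, hy2 ω hω, hx2 ω hω]
      one_mem' := ⟨1, fun β => by simp, fun ω _ => one_smul _ _⟩
      inv_mem' := by
        rintro a ⟨x, hx1, hx2⟩
        refine ⟨x⁻¹, fun β => ?_, fun ω hω => ?_⟩
        · rw [inv_smul_eq_iff, hx1]
          simp [map_inv]
        · rw [inv_smul_eq_iff, hx2 ω hω] }
  have hWmem : ∀ τ : alternatingGroup {β : B // β ≠ B0}, τ ∈ W ↔ ∃ x : G, (∀ β, x • β =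
        Equiv.Perm.ofSubtype (τ : Equiv.Perm {β : B // β ≠ B0}) β) ∧ ∀ ω, p ω = B0 → x • ω = ω :=
    fun _ => Iff.rfl
  have hWn : W.Normal := by
    constructor
    rintro τ ⟨x, hx1, hx2⟩ π
    have hπ : Equiv.Perm.sign (Equiv.Perm.ofSubtype (π : Equiv.Perm {β : B // β ≠ B0})) = 1 := by
      rw [Equiv.Perm.sign_ofSubtype]
      exact Equiv.Perm.mem_alternatingGroup.1 π.2
    obtain ⟨g, hg⟩ := even _ hπ
    have hgB0 : g • B0 = B0 := by
      rw [hg]
      exact Equiv.Perm.ofSubtype_apply_of_not_mem _ (by simp)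
    rw [hWmem]
    refine ⟨g * x * g⁻¹, fun β => ?_, fun ω hω => ?_⟩
    · have hginv : g⁻¹ • β =
          Equiv.Perm.ofSubtype ((π : Equiv.Perm {β : B // β ≠ B0})⁻¹) β := by
        rw [inv_smul_eq_iff, hg]
        simp [map_inv]
      rw [mul_smul, mul_smul, hginv, hx1, hg]
      simp [map_mul, map_inv]
    · have h1 : p (g⁻¹ • ω) = B0 := by rw [eqv, hω, inv_smul_eq_iff, hgB0]
      rw [mul_smul, mul_smul, hx2 _ h1, smul_inv_smul]
  have hfix : ∀ a : G, a • B0 = B0 → Equiv.Perm.sign (MulAction.toPerm a : Equiv.Perm B) = 1 →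
      ∃ τ : alternatingGroup {β : B // β ≠ B0},
        Equiv.Perm.ofSubtype (τ : Equiv.Perm {β : B // β ≠ B0}) = MulAction.toPerm a := by
    intro a ha hs
    obtain ⟨τ, h1, h2⟩ := Z2x_L1 B0 (MulAction.toPerm a) ha
    exact ⟨⟨τ, Equiv.Perm.mem_alternatingGroup.2 (h2.trans hs)⟩, h1⟩
  have hzB0 : z • B0 = B0 := by
    obtain ⟨ω0, h0⟩ := surj B0
    rw [← h0, ← eqv, hz ω0 h0]
  have hWne : W ≠ ⊥ := by
    intro hbot
    obtain ⟨τ, hτ⟩ := hfix z hzB0 hzs
    have h1 : τ ∈ W := (hWmem τ).2 ⟨z, fun β => by rw [hτ]; rfl, hz⟩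
    rw [hbot, Subgroup.mem_bot] at h1
    apply hz1
    apply faith
    intro β
    have h2 : (MulAction.toPerm z : Equiv.Perm B) β = β := by
      rw [← hτ, h1]; simp
    exact h2
  have hWtop : W = ⊤ := (hWn.eq_bot_or_eq_top).resolve_left hWne
  intro a has haB0 ω hω
  obtain ⟨τ, hτ⟩ := hfix a haB0 has
  have h1 : τ ∈ W := by rw [hWtop]; exact Subgroup.mem_top _
  obtain ⟨x, hx1, hx2⟩ := (hWmem τ).1 h1
  have h2 : x⁻¹ * a = 1 := by
    apply faith
    intro β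
    rw [mul_smul, inv_smul_eq_iff, hx1, hτ]
    rfl
  have h3 : a = x := by
    have := congrArg (fun t => x * t) h2
    simpa using this
  rw [h3]
  exact hx2 ω hω

end Cfsg.Agent.Lib.Helper99.MGQ
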